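import Groth.Prelude.Def_W4c3dlvarstrshPar
import Mathlib.LinearAlgebra.Matrix.Transvection
import Mathlib.LinearAlgebra.Matrix.NonsingularInverse

/-!
# Column echelon forms and parabolic cosets
-/

set_option autoImplicit false
set_option maxHeartbeats 400000
universe u

open W4c3dlvarstrsh Matrix
open scoped Classical

noncomputable section

namespace Groth.Agent.ParCx29

variable {F : Type u} [Field F] {m : ℕ}

theorem blockOf_mono (J : Finset (Fin m)) {i j : Fin (m + 1)} (h : i ≤ j) : blockOf J i ≤ blockOf J j := by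
  refine Finset.card_le_card fun k hk => ?_
  simp only [Finset.mem_filter, Finset.mem_univ, true_and] at hk ⊢
  exact ⟨lt_of_lt_of_le hk.1 h, hk.2⟩

theorem blockOf_empty (i : Fin (m + 1)) : blockOf (∅ : Finset (Fin m)) i = i.val := by
  rw [blockOf, ← Finset.card_image_of_injective _ Fin.val_injective,
    show (Finset.univ.filter fun k : Fin m => k.val < i.val ∧ k ∉ (∅ : Finset (Fin m))).image Fin.val = Finset.range i.val from ?_,
    Finset.card_range]
  ext a
  simp only [Finset.mem_image, Finset.mem_filter, Finset.mem_univ, Finset.notMem_empty, not_false_iff, and_true,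
    true_and, Finset.mem_range]
  exact ⟨fun ⟨b, hb, e⟩ => e ▸ hb, fun ha => ⟨⟨a, by omega⟩, ha, rfl⟩⟩

theorem blockOf_eq_iff (J : Finset (Fin m)) {i j : Fin (m + 1)} (h : i ≤ j) :
    blockOf J i = blockOf J j ↔ ∀ k : Fin m, i.val ≤ k.val → k.val < j.val → k ∈ J := by
  constructor
  · intro e k hik hkj
    by_contra hk
    refine absurd e (Nat.ne_of_lt (Finset.card_lt_card (Finset.ssubset_iff_of_subset (fun a ha => ?_)|>.2 ⟨k, ?_, ?_⟩)))
    · simp only [Finset.mem_filter, Finset.mem_univ, true_and] at ha ⊢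
      exact ⟨lt_of_lt_of_le ha.1 h, ha.2⟩
    · simp [hkj, hk]
    · simp only [Finset.mem_filter, Finset.mem_univ, true_and, not_and]; omega
  · intro H
    refine congrArg Finset.card (Finset.ext fun a => ?_)
    simp only [Finset.mem_filter, Finset.mem_univ, true_and]
    refine ⟨fun ⟨h1, h2⟩ => ⟨lt_of_lt_of_le h1 h, h2⟩, fun ⟨h1, h2⟩ => ⟨?_, h2⟩⟩
    by_contra h3
    exact h2 (H a (by omega) h1)

theorem parabolic_mono {J J' : Finset (Fin m)} (h : J ⊆ J') : parabolic F J ≤ parabolic F J' := by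
  intro g hg i j hij
  refine hg ?_
  by_contra hn
  rcases le_total i j with hle | hle
  · exact absurd (blockOf_mono J' hle) (not_le.2 hij)
  · have e := le_antisymm (blockOf_mono J hle) (not_lt.1 hn)
    exact absurd ((blockOf_eq_iff J' hle).2 fun k h1 h2 => h ((blockOf_eq_iff J hle).1 e k h1 h2)) (Nat.ne_of_lt hij)

/-- Pivots of the columns. -/
def Ech (x : GL (Fin (m + 1)) F) (w : Fin (m + 1) → Fin (m + 1)) : Prop :=
  Function.Injective w ∧ (∀ i, (x : Matrix (Fin (m + 1)) (Fin (m + 1)) F) (w i) i ≠ 0) ∧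
    ∀ i r, w i < r → (x : Matrix (Fin (m + 1)) (Fin (m + 1)) F) r i = 0

theorem exists_ech (x : GL (Fin (m + 1)) F) :
    ∃ b ∈ parabolic F (∅ : Finset (Fin m)), ∃ w, Ech (x * b) w := by
  let n := m + 1
  suffices H : ∀ t, t ≤ n → ∃ b ∈ parabolic F (∅ : Finset (Fin m)), ∃ w : Fin n → Fin n,
      (∀ i j : Fin n, i.val < t → j.val < t → w i = w j → i = j) ∧
      ∀ i : Fin n, i.val < t → ((x * b : GL _ F) : Matrix (Fin n) (Fin n) F) (w i) i ≠ 0 ∧
        ∀ r, w i < r → ((x * b : GL _ F) : Matrix (Fin n) (Fin n) F) r i = 0 by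
    obtain ⟨b, hb, w, h1, h2⟩ := H n le_rfl
    exact ⟨b, hb, w, fun i j e => h1 i j i.2 j.2 e, fun i => (h2 i i.2).1, fun i => (h2 i i.2).2⟩
  intro t
  induction t with
  | zero => exact fun _ => ⟨1, one_mem _, id, fun i j h => absurd h (Nat.not_lt_zero _),
      fun i h => absurd h (Nat.not_lt_zero _)⟩
  | succ t ih =>
    intro ht
    obtain ⟨b, hb, w, h1, h2⟩ := ih (Nat.le_of_succ_le ht)
    suffices K : ∀ p : ℕ, ∀ b ∈ parabolic F (∅ : Finset (Fin m)),
        (∀ i : Fin n, i.val < t → ((x * b : GL _ F) : Matrix (Fin n) (Fin n) F) (w i) i ≠ 0 ∧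
          ∀ r, w i < r → ((x * b : GL _ F) : Matrix (Fin n) (Fin n) F) r i = 0) →
        ∀ P : Fin n, P.val = p → ((x * b : GL _ F) : Matrix (Fin n) (Fin n) F) P ⟨t, ht⟩ ≠ 0 →
        (∀ r, P < r → ((x * b : GL _ F) : Matrix (Fin n) (Fin n) F) r ⟨t, ht⟩ = 0) →
        ∃ b ∈ parabolic F (∅ : Finset (Fin m)), ∃ w : Fin n → Fin n,
          (∀ i j : Fin n, i.val < t + 1 → j.val < t + 1 → w i = w j → i = j) ∧
          ∀ i : Fin n, i.val < t + 1 → ((x * b : GL _ F) : Matrix (Fin n) (Fin n) F) (w i) i ≠ 0 ∧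
            ∀ r, w i < r → ((x * b : GL _ F) : Matrix (Fin n) (Fin n) F) r i = 0 by
      have hne : ∀ c : GL (Fin n) F, ∃ P, (c : Matrix (Fin n) (Fin n) F) P ⟨t, ht⟩ ≠ 0 := by
        intro c
        by_contra hh
        simp only [not_exists, not_not] at hh
        exact ((Matrix.isUnit_iff_isUnit_det _).1 c.isUnit).ne_zero (Matrix.det_eq_zero_of_column_eq_zero ⟨t, ht⟩ hh)
      obtain ⟨P, hP⟩ := hne (x * b)
      let S := Finset.univ.filter fun r => ((x * b : GL _ F) : Matrix (Fin n) (Fin n) F) r ⟨t, ht⟩ ≠ 0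
      have hS : S.Nonempty := ⟨P, Finset.mem_filter.2 ⟨Finset.mem_univ P, hP⟩⟩
      refine K _ b hb h2 (S.max' hS) rfl (Finset.mem_filter.1 (S.max'_mem hS)).2 fun r hr => ?_
      by_contra hh
      exact absurd (S.le_max' r (Finset.mem_filter.2 ⟨Finset.mem_univ r, hh⟩)) (not_le.2 hr)
    intro p
    induction p using Nat.strong_induction_on with
    | _ p ihp =>
      intro b hb h2 P hPp hP hPz
      by_cases hex : ∃ i : Fin n, i.val < t ∧ w i = P
      · obtain ⟨i, hi, hiP⟩ := hex
        set X := ((x * b : GL _ F) : Matrix (Fin n) (Fin n) F) with hX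
        set c := -(X P ⟨t, ht⟩ / X P i)
        have hne : i ≠ ⟨t, ht⟩ := fun e => by rw [e] at hi; exact absurd hi (lt_irrefl _)
        let T : GL (Fin n) F := Matrix.GeneralLinearGroup.mkOfDetNeZero (Matrix.transvection i ⟨t, ht⟩ c)
          (by rw [Matrix.det_transvection_of_ne i ⟨t, ht⟩ hne]; exact one_ne_zero)
        have hTB : T ∈ parabolic F (∅ : Finset (Fin m)) := by
          intro a a' h
          rw [blockOf_empty, blockOf_empty] at h
          show (Matrix.transvection i (⟨t, ht⟩ : Fin n) c) a a' = 0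
          have hne' : a ≠ a' := fun e => by rw [e] at h; exact absurd h (lt_irrefl _)
          simp only [Matrix.transvection, Matrix.add_apply, Matrix.one_apply_ne hne', zero_add]
          refine Matrix.single_apply_of_ne _ _ _ _ _ ?_
          rintro ⟨rfl, rfl⟩
          exact absurd h (by simp; omega)
        have hXT : ((x * (b * T) : GL _ F) : Matrix (Fin n) (Fin n) F) = X * Matrix.transvection i ⟨t, ht⟩ c := by
          rw [← mul_assoc, Units.val_mul]; rfl
        have hkeep : ∀ j : Fin n, j.val < t → ∀ r, ((x * (b * T) : GL _ F) : Matrix (Fin n) (Fin n) F) r j = X r j :=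
          fun j hj r => by
            rw [hXT, Matrix.mul_transvection_apply_of_ne i _ r j (fun e => by rw [e] at hj; exact absurd hj (lt_irrefl _))]
        have hnew : ∀ r, ((x * (b * T) : GL _ F) : Matrix (Fin n) (Fin n) F) r ⟨t, ht⟩ = X r ⟨t, ht⟩ + c * X r i :=
          fun r => by rw [hXT, Matrix.mul_transvection_apply_same]
        have hz : ∀ r, P ≤ r → ((x * (b * T) : GL _ F) : Matrix (Fin n) (Fin n) F) r ⟨t, ht⟩ = 0 := by
          intro r hr
          rw [hnew]
          rcases eq_or_lt_of_le hr with e | e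
          · subst e
            have : X P i ≠ 0 := hiP ▸ (h2 i hi).1
            simp only [c]; field_simp; ring
          · rw [hPz r e, (h2 i hi).2 r (hiP ▸ e), mul_zero, add_zero]
        let S := Finset.univ.filter fun r => ((x * (b * T) : GL _ F) : Matrix (Fin n) (Fin n) F) r ⟨t, ht⟩ ≠ 0
        have hS : S.Nonempty := by
          by_contra hh
          refine ((Matrix.isUnit_iff_isUnit_det _).1 (x * (b * T)).isUnit).ne_zero
            (Matrix.det_eq_zero_of_column_eq_zero ⟨t, ht⟩ fun r => ?_)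
          by_contra hr
          exact hh ⟨r, Finset.mem_filter.2 ⟨Finset.mem_univ r, hr⟩⟩
        have hlt : S.max' hS < P := by
          by_contra hh
          exact absurd (hz _ (not_lt.1 hh)) (Finset.mem_filter.1 (S.max'_mem hS)).2
        refine ihp (S.max' hS).val (hPp ▸ hlt) (b * T) (mul_mem hb hTB)
          (fun j hj => ?_) _ rfl (Finset.mem_filter.1 (S.max'_mem hS)).2 fun r hr => ?_
        · simp only [hkeep j hj]; exact h2 j hj
        · by_contra hh
          exact absurd (S.le_max' r (Finset.mem_filter.2 ⟨Finset.mem_univ r, hh⟩)) (not_le.2 hr)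
      · refine ⟨b, hb, fun j => if j.val < t then w j else P, fun i j hi hj e => ?_, fun i hi => ?_⟩
        · dsimp only at e
          split_ifs at e with a a' a'
          · exact h1 i j a a' e
          · exact absurd ⟨i, a, e⟩ hex
          · exact absurd ⟨j, a', e.symm⟩ hex
          · exact Fin.ext (by omega)
        · dsimp only
          split_ifs with a
          · exact h2 i a
          · rw [show i = ⟨t, ht⟩ from Fin.ext (show i.val = t by omega)]; exact ⟨hP, hPz⟩

/-- Echelon points in one parabolic coset. -/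
theorem coset_pivots {J : Finset (Fin m)} {x y p : GL (Fin (m + 1)) F} {w v : Fin (m + 1) → Fin (m + 1)}
    (hx : Ech x w) (hy : Ech y v) (hp : p ∈ parabolic F J) (e : y = x * p) :
    ∃ φ : Fin (m + 1) → Fin (m + 1), Function.Injective φ ∧ (∀ j, v j = w (φ j)) ∧
      (∀ j, blockOf J (φ j) = blockOf J j) ∧
      ∀ i j, (p : Matrix (Fin (m + 1)) (Fin (m + 1)) F) i j ≠ 0 → w i ≤ w (φ j) := by
  set X := (x : Matrix (Fin (m + 1)) (Fin (m + 1)) F)
  set Q := (p : Matrix (Fin (m + 1)) (Fin (m + 1)) F)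
  have hY : ∀ r j, (y : Matrix (Fin (m + 1)) (Fin (m + 1)) F) r j = ∑ i, X r i * Q i j := fun r j => by
    rw [e, Units.val_mul, Matrix.mul_apply]
  let S : Fin (m + 1) → Finset (Fin (m + 1)) := fun j => Finset.univ.filter fun i => Q i j ≠ 0
  have hS : ∀ j, (S j).Nonempty := fun j => by
    by_contra hh
    refine ((Matrix.isUnit_iff_isUnit_det _).1 p.isUnit).ne_zero (Matrix.det_eq_zero_of_column_eq_zero j fun r => ?_)
    by_contra hr
    exact hh ⟨r, Finset.mem_filter.2 ⟨Finset.mem_univ r, hr⟩⟩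
  choose φ hφS hφ using fun j => (S j).exists_max_image w (hS j)
  have hmem : ∀ {i j}, i ∈ S j ↔ Q i j ≠ 0 := fun {i j} => by simp [S]
  have hv : ∀ j, v j = w (φ j) := by
    intro j
    have hne : (y : Matrix (Fin (m + 1)) (Fin (m + 1)) F) (w (φ j)) j ≠ 0 := by
      rw [hY, Finset.sum_eq_single (φ j) (fun i _ hi => ?_) (fun h => absurd (Finset.mem_univ _) h)]
      · exact mul_ne_zero (hx.2.1 _) (hmem.1 (hφS j))
      · by_cases hq : Q i j = 0
        · rw [hq, mul_zero]
        · exact mul_eq_zero_of_left (hx.2.2 i _ (lt_of_le_of_ne (hφ j i (hmem.2 hq)) fun h => hi (hx.1 h))) _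
    refine le_antisymm ?_ ?_
    · by_contra hh
      refine hy.2.1 j ?_
      rw [hY]
      refine Finset.sum_eq_zero fun i _ => ?_
      by_cases hq : Q i j = 0
      · rw [hq, mul_zero]
      · exact mul_eq_zero_of_left (hx.2.2 i _ (lt_of_le_of_lt (hφ j i (hmem.2 hq)) (not_le.1 hh))) _
    · by_contra hh
      exact hne (hy.2.2 j _ (not_le.1 hh))
  have hinj : Function.Injective φ := fun i j h => hy.1 (by rw [hv, hv, h])
  have hle : ∀ j, blockOf J (φ j) ≤ blockOf J j := fun j => by
    by_contra hh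
    exact hmem.1 (hφS j) (hp (not_le.1 hh))
  have hsum : ∑ j, blockOf J (φ j) = ∑ j, blockOf J j :=
    Equiv.sum_comp (Equiv.ofBijective φ ⟨hinj, Finite.injective_iff_surjective.1 hinj⟩) (blockOf J)
  exact ⟨φ, hinj, hv, fun j => (Finset.sum_eq_sum_iff_of_le (fun j _ => hle j)).1 hsum j (Finset.mem_univ j),
    fun i j h => hφ j i (hmem.2 h)⟩

theorem ech_unique {x y p : GL (Fin (m + 1)) F} {w v : Fin (m + 1) → Fin (m + 1)}
    (hx : Ech x w) (hy : Ech y v) (hp : p ∈ parabolic F (∅ : Finset (Fin m))) (e : y = x * p) : v = w := by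
  obtain ⟨φ, -, hv, hb, -⟩ := coset_pivots hx hy hp e
  refine funext fun j => ?_
  have := hb j
  rw [blockOf_empty, blockOf_empty] at this
  rw [hv, Fin.ext this]

/-- Increasing inside the blocks of `J`. -/
def Inc (J : Finset (Fin m)) (w : Fin (m + 1) → Fin (m + 1)) : Prop := ∀ k ∈ J, w k.castSucc < w k.succ

theorem Inc.lt {J : Finset (Fin m)} {w : Fin (m + 1) → Fin (m + 1)} (h : Inc J w) {i j : Fin (m + 1)}
    (hij : i < j) (hb : blockOf J i = blockOf J j) : w i < w j := by
  have H := (blockOf_eq_iff J hij.le).1 hb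
  suffices ∀ d, ∀ j : Fin (m + 1), j.val = i.val + d + 1 → (∀ k : Fin m, i.val ≤ k.val → k.val < j.val → k ∈ J) →
      w i < w j from this (j.val - i.val - 1) j (by have : i.val < j.val := hij; omega) H
  intro d
  induction d with
  | zero =>
    intro j hj H
    have hk : i.val < m := by omega
    have := h ⟨i.val, hk⟩ (H _ le_rfl (by dsimp; omega))
    rwa [show (⟨i.val, hk⟩ : Fin m).castSucc = i from Fin.ext rfl,
      show (⟨i.val, hk⟩ : Fin m).succ = j from Fin.ext (by simp; omega)] at this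
  | succ d ih =>
    intro j hj H
    have hk : j.val - 1 < m := by omega
    have := h ⟨j.val - 1, hk⟩ (H _ (by dsimp; omega) (by dsimp; omega))
    rw [show (⟨j.val - 1, hk⟩ : Fin m).succ = j from Fin.ext (by simp; omega)] at this
    exact lt_trans (ih _ (by simp; omega) fun k h1 h2 => H k h1 (by simp at h2; omega)) this

theorem min_unique {J : Finset (Fin m)} {x y p : GL (Fin (m + 1)) F} {w v : Fin (m + 1) → Fin (m + 1)}
    (hx : Ech x w) (hy : Ech y v) (hxi : Inc J w) (hyi : Inc J v) (hp : p ∈ parabolic F J) (e : y = x * p) :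
    v = w ∧ p ∈ parabolic F (∅ : Finset (Fin m)) := by
  obtain ⟨φ, hinj, hv, hb, hmax⟩ := coset_pivots hx hy hp e
  have hmono : StrictMono φ := by
    intro i j hij
    by_contra hh
    have hlt : φ j < φ i := lt_of_le_of_ne (not_lt.1 hh) fun e => absurd (hinj e) (ne_of_gt hij)
    have e1 : blockOf J i = blockOf J j :=
      le_antisymm (blockOf_mono J hij.le) (by rw [← hb i, ← hb j]; exact blockOf_mono J hlt.le)
    have h1 := hyi.lt hij e1
    rw [hv, hv] at h1
    exact absurd h1 (not_lt.2 (hxi.lt hlt (by rw [hb, hb, e1])).le)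
  have hid : ∀ j, φ j = j := fun j => congrFun
    (hmono.range_inj strictMono_id |>.1 (by
      rw [Set.range_id]; exact Set.range_eq_univ.2 (Finite.injective_iff_surjective.1 hinj))) j
  refine ⟨funext fun j => by rw [hv, hid], fun i j hij => ?_⟩
  rw [blockOf_empty, blockOf_empty] at hij
  by_contra hne
  have hle : blockOf J i ≤ blockOf J j := by
    by_contra hh
    exact hne (hp (not_le.1 hh))
  have := hxi.lt (show j < i from hij) (le_antisymm (blockOf_mono J (le_of_lt hij)) hle)
  have := hmax i j hne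
  rw [hid] at this
  omega

/-- Permutation matrix. -/
def pm (σ : Equiv.Perm (Fin (m + 1))) : GL (Fin (m + 1)) F where
  val := Matrix.of fun i j => if i = σ j then 1 else 0
  inv := Matrix.of fun i j => if i = σ.symm j then 1 else 0
  val_inv := by
    ext i j
    simp [Matrix.mul_apply, Matrix.one_apply]
  inv_val := by
    ext i j
    simp [Matrix.mul_apply, Matrix.one_apply, Equiv.eq_symm_apply]

theorem mul_pm_apply (x : GL (Fin (m + 1)) F) (σ : Equiv.Perm (Fin (m + 1))) (r j : Fin (m + 1)) :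
    ((x * pm σ : GL _ F) : Matrix (Fin (m + 1)) (Fin (m + 1)) F) r j = (x : Matrix (Fin (m + 1)) (Fin (m + 1)) F) r (σ j) := by
  rw [Units.val_mul, Matrix.mul_apply]
  simp [pm]

/-- The weight. -/
def wt (w : Fin (m + 1) → Fin (m + 1)) : ℕ := ∑ i : Fin (m + 1), i.val * ((m + 1) - (w i).val)

theorem exists_lower {J : Finset (Fin m)} {x : GL (Fin (m + 1)) F} {w : Fin (m + 1) → Fin (m + 1)}
    (hx : Ech x w) {k : Fin m} (hk : k ∈ J) (hd : ¬ w k.castSucc < w k.succ) :
    ∃ p ∈ parabolic F J, ∃ v, Ech (x * p) v ∧ wt v < wt w := by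
  let σ : Equiv.Perm (Fin (m + 1)) := Equiv.swap k.castSucc k.succ
  have hne : k.castSucc ≠ k.succ := ne_of_lt (Fin.castSucc_lt_succ (i := k))
  refine ⟨pm σ, fun i j hij => ?_, w ∘ σ, ⟨hx.1.comp σ.injective, fun i => ?_, fun i r hr => ?_⟩, ?_⟩
  · show (if i = σ j then (1 : F) else 0) = 0
    refine if_neg fun e => Nat.ne_of_lt hij ?_
    have hb : blockOf J k.castSucc = blockOf J k.succ :=
      (blockOf_eq_iff J (le_of_lt (Fin.castSucc_lt_succ (i := k)))).2 fun a h1 h2 => by
        rw [show a = k from Fin.ext (by simp at h1 h2; omega)]; exact hk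
    rw [e]
    by_cases h1 : j = k.castSucc
    · rw [h1, Equiv.swap_apply_left, hb]
    by_cases h2 : j = k.succ
    · rw [h2, Equiv.swap_apply_right, hb]
    rw [Equiv.swap_apply_of_ne_of_ne h1 h2]
  · rw [mul_pm_apply]; exact hx.2.1 _
  · rw [mul_pm_apply]; exact hx.2.2 _ _ hr
  · have hlt : w k.succ < w k.castSucc := lt_of_le_of_ne (not_lt.1 hd) fun e => hne (hx.1 e).symm
    let R := (Finset.univ.erase k.castSucc).erase k.succ
    have split : ∀ g : Fin (m + 1) → ℕ, ∑ i, g i = g k.castSucc + (g k.succ + ∑ i ∈ R, g i) := fun g => by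
      rw [← Finset.add_sum_erase _ g (Finset.mem_univ k.castSucc),
        ← Finset.add_sum_erase (Finset.univ.erase k.castSucc) g
          (Finset.mem_erase.2 ⟨hne.symm, Finset.mem_univ _⟩)]
    have hrest : ∀ i ∈ R, i.val * (m + 1 - ((w ∘ σ) i).val) = i.val * (m + 1 - (w i).val) := fun i hi => by
      simp only [R, Finset.mem_erase] at hi
      simp only [Function.comp, σ, Equiv.swap_apply_of_ne_of_ne hi.2.1 hi.1]
    simp only [wt, split, Finset.sum_congr rfl hrest]
    simp only [Function.comp, σ, Equiv.swap_apply_left, Equiv.swap_apply_right, Fin.val_castSucc, Fin.val_succ,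
      add_mul, one_mul]
    have h3 : (w k.succ).val < (w k.castSucc).val := hlt
    have h4 := (w k.castSucc).2
    omega

theorem exists_min (J : Finset (Fin m)) (x : GL (Fin (m + 1)) F) :
    ∃ p ∈ parabolic F J, ∃ w, Ech (x * p) w ∧ Inc J w := by
  obtain ⟨b, hb, w, hw⟩ := exists_ech x
  suffices H : ∀ N, ∀ p ∈ parabolic F J, ∀ w, Ech (x * p) w → wt w = N →
      ∃ p ∈ parabolic F J, ∃ w, Ech (x * p) w ∧ Inc J w from
    H _ b (parabolic_mono (Finset.empty_subset J) hb) w hw rfl
  intro N
  induction N using Nat.strong_induction_on with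
  | _ N ih =>
    intro p hp w hw hN
    by_cases hi : Inc J w
    · exact ⟨p, hp, w, hw, hi⟩
    · simp only [Inc, not_forall] at hi
      obtain ⟨k, hk, hd⟩ := hi
      obtain ⟨q, hq, v, hv, hlt⟩ := exists_lower hw hk hd
      exact ih (wt v) (hN ▸ hlt) (p * q) (mul_mem hp hq) v (by rwa [← mul_assoc]) rfl

theorem wt_le_of_coset {J : Finset (Fin m)} {x y p : GL (Fin (m + 1)) F} {w v : Fin (m + 1) → Fin (m + 1)}
    (hx : Ech x w) (hy : Ech y v) (hxi : Inc J w) (hp : p ∈ parabolic F J) (e : y = x * p) :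
    wt w ≤ wt v ∧ (wt v = wt w → Inc J v) := by
  suffices H : ∀ N, ∀ (y p : GL (Fin (m + 1)) F) v, Ech y v → p ∈ parabolic F J → y = x * p → wt v = N →
      wt w ≤ wt v ∧ (wt v = wt w → Inc J v) from H _ y p v hy hp e rfl
  intro N
  induction N using Nat.strong_induction_on with
  | _ N ih =>
    intro y p v hy hp e hN
    by_cases hi : Inc J v
    · rw [(min_unique hx hy hxi hi hp e).1]; exact ⟨le_rfl, fun _ => hxi⟩
    · have hi' := hi
      simp only [Inc, not_forall] at hi'
      obtain ⟨k, hk, hd⟩ := hi'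
      obtain ⟨q, hq, v', hv', hlt⟩ := exists_lower hy hk hd
      have := ih (wt v') (hN ▸ hlt) _ (p * q) v' hv' (mul_mem hp hq) (by rw [e, mul_assoc]) rfl
      exact ⟨by omega, fun he => absurd he (by omega)⟩

end Groth.Agent.ParCx29
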