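import Groth.Agent.Lib.ParCx29.Ech
import Mathlib.Algebra.BigOperators.Intervals

/-!
# Exactness of the parabolic permutation complex
-/

set_option autoImplicit false
set_option maxHeartbeats 400000
universe u v

open W4c3dlvarstrsh
open scoped Classical

noncomputable section

namespace Groth.Agent.ParCx29

variable {F : Type u} [Field F] {R : Type v} [CommRing R] {m r : ℕ}

theorem sgn_eq (T : Finset (Fin r)) {a b : Fin r} (hab : a ≠ b) (hb : b ∉ T) :
    sgn (insert b T) a = if b < a then -sgn T a else sgn T a := by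
  unfold sgn
  rw [Finset.filter_insert]
  split_ifs with h
  · rw [Finset.card_insert_of_notMem (fun hh => hb (Finset.mem_filter.1 hh).1)]
    ring
  · rfl

theorem sgn_swap (T : Finset (Fin r)) {a b : Fin r} (hab : a ≠ b) (ha : a ∉ T) (hb : b ∉ T) :
    sgn T a * sgn (insert a T) b = -(sgn T b * sgn (insert b T) a) := by
  rw [sgn_eq T hab hb, sgn_eq T hab.symm ha]
  rcases lt_or_gt_of_ne hab with h | h
  · rw [if_pos h, if_neg (lt_asymm h)]; ring
  · rw [if_neg (lt_asymm h), if_pos h]; ring

theorem sgn_sq (T : Finset (Fin r)) (a : Fin r) : sgn T a * sgn T a = 1 := by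
  unfold sgn; rw [← mul_pow]; simp

theorem delta_add {c : ℕ} (f g : Cochain F R (m := m) r (c + 1)) : delta c (f - g) = delta c f - delta c g := by
  funext T x
  simp only [delta, Pi.sub_apply, ← Finset.sum_sub_distrib]
  refine Finset.sum_congr rfl fun a _ => ?_
  split_ifs <;> ring

theorem delta_delta {c : ℕ} (g : Cochain F R (m := m) r (c + 2)) : delta c (delta (c + 1) g) = 0 := by
  funext T x
  simp only [delta, Pi.zero_apply]
  let G : Fin r × Fin r → R := fun ab => if h : ab.1 ∉ T.1 ∧ ab.2 ∉ T.1 ∧ ab.1 ≠ ab.2 then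
    ((sgn T.1 ab.1 * sgn (insert ab.1 T.1) ab.2 : ℤ) : R) *
      g ⟨insert ab.2 (insert ab.1 T.1), by
        rw [Finset.card_insert_of_notMem (by simp [h.2.1, h.2.2.symm]), Finset.card_insert_of_notMem h.1, T.2]⟩ x
    else 0
  have e : ∀ a : Fin r, (if h : a ∉ T.1 then (sgn T.1 a : R) * ∑ b : Fin r, (if h' : b ∉ insert a T.1 then
      (sgn (insert a T.1) b : R) * g ⟨insert b (insert a T.1), by
        rw [Finset.card_insert_of_notMem h', Finset.card_insert_of_notMem h, T.2]⟩ x else 0) else 0) =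
      ∑ b, G (a, b) := by
    intro a
    split_ifs with h
    · exact (Finset.sum_eq_zero fun b _ => dif_neg fun hh => hh.1 h).symm
    · rw [Finset.mul_sum]
      refine Finset.sum_congr rfl fun b _ => ?_
      by_cases hb : b ∈ insert a T.1
      · rw [dif_neg (not_not.2 hb), mul_zero]
        simp only [G]
        rw [dif_neg]
        rintro ⟨h1, h2, h3⟩
        rcases Finset.mem_insert.1 hb with rfl | hb
        · exact h3 rfl
        · exact h2 hb
      · rw [dif_pos hb]
        have hb' := hb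
        rw [Finset.mem_insert, not_or] at hb'
        simp only [G]
        rw [dif_pos ⟨h, hb'.2, fun e => hb'.1 e.symm⟩]
        push_cast
        ring
  rw [Finset.sum_congr rfl fun a _ => e a, ← Finset.sum_product' (f := fun a b => G (a, b))]
  refine Finset.sum_involution (fun ab _ => (ab.2, ab.1)) (fun ab _ => ?_) (fun ab _ hne heq => ?_)
    (fun _ _ => Finset.mem_product.2 ⟨Finset.mem_univ _, Finset.mem_univ _⟩) fun _ _ => rfl
  · show G (ab.1, ab.2) + G (ab.2, ab.1) = 0
    simp only [G]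
    by_cases h : ab.1 ∉ T.1 ∧ ab.2 ∉ T.1 ∧ ab.1 ≠ ab.2
    · rw [dif_pos h, dif_pos ⟨h.2.1, h.1, h.2.2.symm⟩, sgn_swap T.1 h.2.2 h.1 h.2.1]
      have e : (insert ab.1 (insert ab.2 T.1) : Finset (Fin r)) = insert ab.2 (insert ab.1 T.1) := Finset.insert_comm _ _ _
      simp only [e]
      push_cast
      ring
    · rw [dif_neg h, dif_neg fun hh => h ⟨hh.2.1, hh.1, hh.2.2.symm⟩, add_zero]
  · refine hne (dif_neg fun hh => hh.2.2 ?_)
    exact (congrArg Prod.snd heq)

variable (ω : Fin r ↪ Fin m)

theorem isInduced_delta {c : ℕ} {g : Cochain F R (m := m) r (c + 1)} (hg : IsInduced ω g) :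
    IsInduced ω (delta c g) := by
  intro T x p hp
  simp only [delta]
  refine Finset.sum_congr rfl fun a _ => ?_
  split_ifs with h
  · rfl
  · rw [hg ⟨insert a T.1, by rw [Finset.card_insert_of_notMem h, T.2]⟩ x p
      (parabolic_mono (Finset.map_subset_map.2 (Finset.subset_insert a T.1)) hp)]

/-- Letters with no descent at `w`. -/
def good (w : Fin (m + 1) → Fin (m + 1)) : Finset (Fin r) :=
  Finset.univ.filter fun a => w (ω a).castSucc < w (ω a).succ

theorem inc_iff {T : Finset (Fin r)} {w : Fin (m + 1) → Fin (m + 1)} : Inc (T.map ω) w ↔ T ⊆ good ω w := by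
  simp [Inc, good, Finset.subset_iff]

/-- The primitive at the minimal point of a coset. -/
def prim {c : ℕ} (f : Cochain F R (m := m) r (c + 1)) (ℓ : ℕ) (S : Finset (Fin r)) (hS : S.card = c + 2)
    (y : GL (Fin (m + 1)) F) (w : Fin (m + 1) → Fin (m + 1)) : R :=
  if h : wt w = ℓ ∧ (good ω w).Nonempty then
    (if h0 : (good ω w).min' h.2 ∈ S then
      (sgn (S.erase ((good ω w).min' h.2)) ((good ω w).min' h.2) : R) *
        f ⟨S.erase ((good ω w).min' h.2), by rw [Finset.card_erase_of_mem h0, hS]; rfl⟩ y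
      else 0)
  else 0

set_option maxHeartbeats 2000000 in
theorem exists_step {c : ℕ} (f : Cochain F R (m := m) r (c + 1)) (hf : IsInduced ω f) (hd : delta c f = 0) (ℓ : ℕ)
    (hz : ∀ y w, Ech y w → wt w < ℓ → ∀ T, f T y = 0) :
    ∃ g : Cochain F R (m := m) r (c + 2), IsInduced ω g ∧
      ∀ y w, Ech y w → wt w < ℓ + 1 → ∀ T, (f - delta (c + 1) g) T y = 0 := by
  have hmin := fun (S : Finset (Fin r)) (x : GL (Fin (m + 1)) F) => exists_min (S.map ω) x
  choose q hq w₀ hw₀ hinc using hmin
  let g : Cochain F R (m := m) r (c + 2) := fun S x => prim ω f ℓ S.1 S.2 (x * q S.1 x) (w₀ S.1 x)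
  have hfB : ∀ (T) (y b : GL (Fin (m + 1)) F), b ∈ parabolic F (∅ : Finset (Fin m)) → f T (y * b) = f T y :=
    fun T y b hb => hf T y b (parabolic_mono (Finset.empty_subset _) hb)
  have hgval : ∀ (S : {S : Finset (Fin r) // S.card = c + 2}) (x p : GL (Fin (m + 1)) F) w,
      p ∈ parabolic F (S.1.map ω) → Ech (x * p) w → Inc (S.1.map ω) w →
      g S x = prim ω f ℓ S.1 S.2 (x * p) w := by
    intro S x p w hp hw hi
    obtain ⟨e1, e2⟩ := min_unique hw (hw₀ S.1 x) hi (hinc S.1 x) (mul_mem (inv_mem hp) (hq S.1 x))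
      (by group)
    have e3 : x * q S.1 x = (x * p) * (p⁻¹ * q S.1 x) := by group
    show prim ω f ℓ S.1 S.2 (x * q S.1 x) (w₀ S.1 x) = _
    rw [e1, e3]
    simp only [prim]
    split_ifs with h h0
    · rw [hfB _ _ _ e2]
    · rfl
    · rfl
  have hgind : IsInduced ω g := by
    intro S x p hp
    rw [hgval S (x * p) (p⁻¹ * q S.1 x) (w₀ S.1 x) (mul_mem (inv_mem hp) (hq S.1 x))
      (by rw [show x * p * (p⁻¹ * q S.1 x) = x * q S.1 x by group]; exact hw₀ S.1 x) (hinc S.1 x),
      show x * p * (p⁻¹ * q S.1 x) = x * q S.1 x by group]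
  have hlow : ∀ (S : {S : Finset (Fin r) // S.card = c + 2}) (y : GL (Fin (m + 1)) F) w, Ech y w →
      (wt w < ℓ ∨ (wt w = ℓ ∧ ¬ S.1 ⊆ good ω w)) → g S y = 0 := by
    intro S y w hw hcase
    have h := wt_le_of_coset (p := (q S.1 y)⁻¹) (hw₀ S.1 y) hw (hinc S.1 y) (inv_mem (hq S.1 y)) (by group)
    refine dif_neg fun hh => ?_
    rcases hcase with h1 | ⟨h1, h2⟩
    · have := h.1; omega
    · exact h2 ((inc_iff ω).1 (h.2 (by omega)))
  refine ⟨g, hgind, fun y w hw hlt T => ?_⟩
  show f T y - delta (c + 1) g T y = 0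
  rcases Nat.lt_or_ge (wt w) ℓ with hl | hl
  · rw [hz y w hw hl, sub_eq_zero]
    refine (Finset.sum_eq_zero fun a _ => ?_).symm
    split_ifs with h
    · rfl
    · rw [hlow _ y w hw (Or.inl hl), mul_zero]
  have hwl : wt w = ℓ := by omega
  by_cases hT : T.1 ⊆ good ω w
  swap
  · have hni : ¬ Inc (T.1.map ω) w := fun h => hT ((inc_iff ω).1 h)
    simp only [Inc, not_forall] at hni
    obtain ⟨k, hk, hd'⟩ := hni
    obtain ⟨p, hp, v, hv, hvlt⟩ := exists_lower hw hk hd'
    rw [← hf T y p hp, hz _ v hv (by omega) T, zero_sub, neg_eq_zero,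
      ← isInduced_delta ω hgind T y p hp]
    refine Finset.sum_eq_zero fun a _ => ?_
    split_ifs with h
    · rfl
    · rw [hlow _ _ v hv (Or.inl (by omega)), mul_zero]
  set A := good ω w with hA
  have hAne : A.Nonempty := by
    obtain ⟨a, ha⟩ := Finset.card_pos.1 (show 0 < T.1.card by rw [T.2]; omega)
    exact ⟨a, hT ha⟩
  set a0 := A.min' hAne with ha0
  have hgtop : ∀ (S : {S : Finset (Fin r) // S.card = c + 2}), S.1 ⊆ A → g S y = if h0 : a0 ∈ S.1 then
      (sgn (S.1.erase a0) a0 : R) * f ⟨S.1.erase a0, by rw [Finset.card_erase_of_mem h0, S.2]; rfl⟩ y else 0 := by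
    intro S hS
    rw [hgval S y 1 w (one_mem _) (by rwa [mul_one]) ((inc_iff ω).2 hS), prim, dif_pos ⟨hwl, hAne⟩, mul_one]
  have fT : ∀ (U : {U : Finset (Fin r) // U.card = c + 1}), U.1 = T.1 → f U y = f T y := fun U h => by
    rw [show U = T from Subtype.ext h]
  rw [sub_eq_zero]
  show f T y = delta (c + 1) g T y
  simp only [delta]
  by_cases h0 : a0 ∈ T.1
  · let T' : {U : Finset (Fin r) // U.card = c} := ⟨T.1.erase a0, by rw [Finset.card_erase_of_mem h0, T.2]; rfl⟩
    have hT' : a0 ∉ T'.1 := Finset.notMem_erase a0 T.1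
    have hins : insert a0 T'.1 = T.1 := Finset.insert_erase h0
    have hd0 := congrFun (congrFun hd T') y
    simp only [delta, Pi.zero_apply] at hd0
    rw [← Finset.add_sum_erase _ _ (Finset.mem_univ a0), dif_pos hT', fT _ hins] at hd0
    have key : ∀ a ∈ Finset.univ.erase a0, (if h : a ∉ T.1 then (sgn T.1 a : R) *
        g ⟨insert a T.1, by rw [Finset.card_insert_of_notMem h, T.2]⟩ y else 0) =
        -(sgn T'.1 a0 : R) * (if h : a ∉ T'.1 then (sgn T'.1 a : R) *
          f ⟨insert a T'.1, by rw [Finset.card_insert_of_notMem h, T'.2]⟩ y else 0) := by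
      intro a ha
      have hane := (Finset.mem_erase.1 ha).1
      by_cases haT : a ∈ T.1
      · rw [dif_neg (not_not.2 haT), dif_neg (not_not.2 (Finset.mem_erase.2 ⟨hane, haT⟩)), mul_zero]
      · have haT' : a ∉ T'.1 := fun h => haT (Finset.mem_erase.1 h).2
        rw [dif_pos haT, dif_pos haT']
        by_cases haA : a ∈ A
        · rw [hgtop ⟨insert a T.1, by rw [Finset.card_insert_of_notMem haT, T.2]⟩ (Finset.insert_subset haA hT),
            dif_pos (Finset.mem_insert_of_mem h0)]
          have e1 : (insert a T.1).erase a0 = insert a T'.1 := Finset.erase_insert_of_ne hane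
          simp only [e1]
          have e2 := sgn_swap T'.1 (Ne.symm hane) hT' haT'
          rw [hins] at e2
          have e3 : sgn T.1 a * sgn (insert a T'.1) a0 = -(sgn T'.1 a0 * sgn T'.1 a) := by
            have h1 := sgn_sq T'.1 a0
            have h2 := sgn_sq (insert a T'.1) a0
            have h3 := congrArg (fun z => sgn T'.1 a0 * z * sgn (insert a T'.1) a0) e2
            calc sgn T.1 a * sgn (insert a T'.1) a0
                = (sgn T'.1 a0 * sgn T'.1 a0) * (sgn T.1 a * sgn (insert a T'.1) a0) := by rw [h1, one_mul]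
              _ = sgn T'.1 a0 * (sgn T'.1 a0 * sgn T.1 a) * sgn (insert a T'.1) a0 := by ring
              _ = sgn T'.1 a0 * -(sgn T'.1 a * sgn (insert a T'.1) a0) * sgn (insert a T'.1) a0 := by rw [e2]
              _ = -(sgn T'.1 a0 * sgn T'.1 a) * (sgn (insert a T'.1) a0 * sgn (insert a T'.1) a0) := by ring
              _ = -(sgn T'.1 a0 * sgn T'.1 a) := by rw [h2, mul_one]
          rw [← mul_assoc, ← Int.cast_mul, e3]
          push_cast
          ring
        · have hvan : f ⟨insert a T'.1, by rw [Finset.card_insert_of_notMem haT', T'.2]⟩ y = 0 := by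
            have hni : ¬ Inc ((insert a T'.1).map ω) w := fun h => haA ((inc_iff ω).1 h (Finset.mem_insert_self _ _))
            simp only [Inc, not_forall] at hni
            obtain ⟨k, hk, hd'⟩ := hni
            obtain ⟨p, hp, v, hv, hvlt⟩ := exists_lower hw hk hd'
            rw [← hf ⟨insert a T'.1, by rw [Finset.card_insert_of_notMem haT', T'.2]⟩ y p hp, hz _ v hv (by omega)]
          have hgv := hlow ⟨insert a T.1, by rw [Finset.card_insert_of_notMem haT, T.2]⟩ y w hw
            (Or.inr ⟨hwl, fun h => haA (h (Finset.mem_insert_self a T.1))⟩)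
          rw [hvan, hgv]
          ring
    rw [← Finset.add_sum_erase _ _ (Finset.mem_univ a0), dif_neg (not_not.2 h0), zero_add,
      Finset.sum_congr rfl key, ← Finset.mul_sum]
    have hs : (sgn T'.1 a0 : R) * sgn T'.1 a0 = 1 := by rw [← Int.cast_mul, sgn_sq, Int.cast_one]
    have hrest := eq_neg_of_add_eq_zero_right hd0
    rw [hrest, mul_neg, neg_mul, neg_neg, ← mul_assoc, hs, one_mul]
  · rw [Finset.sum_eq_single a0 (fun a _ hane => ?_) (fun h => absurd (Finset.mem_univ _) h), dif_pos h0,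
      hgtop ⟨insert a0 T.1, by rw [Finset.card_insert_of_notMem h0, T.2]⟩
        (Finset.insert_subset (A.min'_mem hAne) hT), dif_pos (Finset.mem_insert_self _ _)]
    · simp only [Finset.erase_insert h0]
      rw [← mul_assoc, ← Int.cast_mul, sgn_sq, Int.cast_one, one_mul]
    · split_ifs with h
      · rfl
      · by_cases haA : a ∈ A
        · rw [hgtop ⟨insert a T.1, by rw [Finset.card_insert_of_notMem h, T.2]⟩ (Finset.insert_subset haA hT),
            dif_neg (by simp [h0, Ne.symm hane]), mul_zero]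
        · rw [hlow ⟨insert a T.1, by rw [Finset.card_insert_of_notMem h, T.2]⟩ y w hw
            (Or.inr ⟨hwl, fun h' => haA (h' (Finset.mem_insert_self a T.1))⟩), mul_zero]

/-- Exactness. -/
theorem exact {c : ℕ} (f : Cochain F R (m := m) r (c + 1)) (hf : IsInduced ω f) (hd : delta c f = 0) :
    ∃ g : Cochain F R (m := m) r (c + 2), IsInduced ω g ∧ delta (c + 1) g = f := by
  have H : ∀ ℓ : ℕ, ∃ g : Cochain F R (m := m) r (c + 2), IsInduced ω g ∧
      ∀ y w, Ech y w → wt w < ℓ → ∀ T, (f - delta (c + 1) g) T y = 0 := by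
    intro ℓ
    induction ℓ with
    | zero => exact ⟨0, fun _ _ _ _ => rfl, fun _ _ _ h => absurd h (Nat.not_lt_zero _)⟩
    | succ ℓ ih =>
      obtain ⟨g, hg, hgz⟩ := ih
      have hf' : IsInduced ω (f - delta (c + 1) g) := fun T x p hp => by
        simp only [Pi.sub_apply]; rw [hf T x p hp, isInduced_delta ω hg T x p hp]
      have hd' : delta c (f - delta (c + 1) g) = 0 := by rw [delta_add, hd, delta_delta, sub_zero]
      obtain ⟨g', hg', hgz'⟩ := exists_step ω _ hf' hd' ℓ hgz
      refine ⟨g + g', fun T x p hp => by simp only [Pi.add_apply]; rw [hg T x p hp, hg' T x p hp], fun y w hw hlt T => ?_⟩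
      have h1 := hgz' y w hw hlt T
      have h2 : delta (c + 1) (g + g') T y = delta (c + 1) g T y + delta (c + 1) g' T y := by
        simp only [delta, Pi.add_apply, ← Finset.sum_add_distrib]
        refine Finset.sum_congr rfl fun a _ => ?_
        split_ifs <;> ring
      simp only [Pi.sub_apply] at h1 ⊢
      rw [h2, ← h1]; ring
  obtain ⟨g, hg, hgz⟩ := H ((m + 1) * ((m + 1) * (m + 1)) + 1)
  refine ⟨g, hg, funext fun T => funext fun x => ?_⟩
  obtain ⟨b, hb, w, hw⟩ := exists_ech x
  have hb' : b ∈ parabolic F (T.1.map ω) := parabolic_mono (Finset.empty_subset _) hb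
  have hwb : wt w < (m + 1) * ((m + 1) * (m + 1)) + 1 := by
    refine Nat.lt_succ_of_le ?_
    refine (Finset.sum_le_card_nsmul Finset.univ _ ((m + 1) * (m + 1)) fun i _ => ?_).trans (le_of_eq (by simp))
    exact Nat.mul_le_mul (le_of_lt i.2) (Nat.sub_le _ _)
  have := hgz _ w hw hwb T
  rw [Pi.sub_apply, Pi.sub_apply, sub_eq_zero, hf T x b hb', isInduced_delta ω hg T x b hb'] at this
  exact this.symm

end Groth.Agent.ParCx29
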